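import Cfsg.Agent.Golay.Action
import Cfsg.Agent.Leech.Tetrad

/-!
Permutations of the sextet stabiliser and code words meeting every tetrad evenly.
-/

set_option autoImplicit false

namespace Cfsg.Lib.Leech.OutCo1

open Cfsg Cfsg.Lib.Golay

/-- Permutations preserving the sextet, transitive together on the points. -/
def gens : List PermCert.PP := [(1803891706702854919354313716502411360361027053777308332717736546825340158633118793400271120973863777375218827276,
   13227156960322356806736108005547516942251571416256626764153126497250582673081975709189422466181999531628744998926),
  (8417231663567894792672762668392266557866596867341978739998145290618789292732966811773331979389345081264080879616,
   10220958237110529193318032711334656535319041568037428882290895585717944689432731047393565141031482526458334806016)]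

/-- Code words meeting each tetrad evenly and separating the points. -/
def evens : List ℕ := [9347075, 1302533, 11100169, 11952160, 10170384, 2019456, 15515712, 8077824, 4038912, 11654144]

end Cfsg.Lib.Leech.OutCo1
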