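import Cfsg.Agent.Leech.OutCo1.Vectors
import Cfsg.Agent.Leech.OutCo1.Data

/-!
The map sending the standard frame to the twisted lines intertwines the natural and the twisted action.
-/

set_option autoImplicit false
set_option maxRecDepth 8000

namespace Cfsg.Lib.Leech.OutCo1

open Cfsg Cfsg.Lib.Golay Cfsg.Lib.Leech Finset

/-- A signed permutation conjugated by the tetrad map keeps the standard frame. -/
def tetMonomial (σ : Equiv.Perm GolayPt) (c : Finset GolayPt) : Bool :=
  decide (∀ i : GolayPt, ∃ j : GolayPt,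
    tetMap (signedPerm σ c (tetMap (e8 i : GolayPt → ℤ))) = (e8 j : GolayPt → ℤ) ∨
    tetMap (signedPerm σ c (tetMap (e8 i : GolayPt → ℤ))) = -(e8 j : GolayPt → ℤ))

theorem conj_mem_monoGroup {σ : Equiv.Perm GolayPt} {c : Finset GolayPt} (hσ : σ ∈ M24) (hc : c ∈ code)
    (h : tetMonomial σ c = true) : tetAut * mono hσ hc * tetAut ∈ monoGroup := by
  have h' := of_decide_eq_true h
  have he : ∀ i, ((tetAut * mono hσ hc * tetAut) • e8 i : leechLattice).1 ∈ stdCross := fun i => by
    obtain ⟨j, hj⟩ := h' i
    refine stdCross_eq_e8.mpr ⟨j, ?_⟩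
    simp only [mul_smul]
    exact hj
  refine mem_monoGroup_of_fixes fun v hv => ?_
  obtain ⟨i, hi | hi⟩ := stdCross_eq_e8.mp hv
  · rw [show v = e8 i from Subtype.ext hi]; exact he i
  · rw [show v = -e8 i from Subtype.ext hi, smul_neg', AddSubgroup.coe_neg]
    obtain ⟨j, hj | hj⟩ := stdCross_eq_e8.mp (he i)
    · exact stdCross_eq_e8.mpr ⟨j, Or.inr (by rw [hj])⟩
    · exact stdCross_eq_e8.mpr ⟨j, Or.inl (by rw [hj, neg_neg])⟩

theorem gens_ok : gens.all (fun g => preserves g && tetMonomial (toP g) ∅) = true := by decide +kernel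

theorem evens_ok : evens.all (fun m => decide (m < 2 ^ 24) && inCode m && tetMonomial 1 (pts m)) = true := by
  decide +kernel

theorem evens_sep : ∀ i j : GolayPt, i ≠ j → ∃ m ∈ evens, m.testBit (pidx i) ≠ m.testBit (pidx j) := by
  decide +kernel

/-- One step of the orbit computation. -/
def grow (s : Finset GolayPt) : Finset GolayPt :=
  s ∪ gens.foldr (fun g t => (s.image fun p => ptAt (PermCert.ap g.1 (pidx p))) ∪ t) ∅

/-- Iterated steps. -/
def growN : ℕ → Finset GolayPt
  | 0 => {none}
  | n + 1 => grow (growN n)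

theorem grow_all : growN 12 = Finset.univ := by decide +kernel

theorem gens_orbit {Q : GolayPt → Prop} (h0 : Q none)
    (hstep : ∀ g ∈ gens, ∀ p, Q p → Q (toP g p)) : ∀ p, Q p := by
  have hvalid : ∀ g ∈ gens, PermCert.valid 24 g = true := fun g hg => by
    have := List.all_eq_true.mp gens_ok g hg
    simp only [Bool.and_eq_true, preserves] at this
    exact this.1.1
  have happ : ∀ g ∈ gens, ∀ p : GolayPt, ptAt (PermCert.ap g.1 (pidx p)) = toP g p := fun g hg p => by
    refine pidx_injective ?_
    rw [pidx_toP (hvalid g hg), pidx_ptAt ⟨_, PermCert.valid_lt (hvalid g hg) (pidx_lt p)⟩]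
  have hn : ∀ n, ∀ p ∈ growN n, Q p := by
    intro n
    induction n with
    | zero => intro p hp; rw [growN, mem_singleton] at hp; exact hp ▸ h0
    | succ n ih =>
      intro p hp
      rcases Finset.mem_union.mp hp with hp | hp
      · exact ih p hp
      · have aux : ∀ l : List PermCert.PP, (∀ g ∈ l, g ∈ gens) →
            p ∈ l.foldr (fun g t => ((growN n).image fun p => ptAt (PermCert.ap g.1 (pidx p))) ∪ t) ∅ → Q p := by
          intro l hl
          induction l with
          | nil => simp
          | cons g l ihl =>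
            intro h
            rcases Finset.mem_union.mp h with h | h
            · obtain ⟨q, hq, rfl⟩ := Finset.mem_image.mp h
              rw [happ g (hl g (List.mem_cons_self ..))]
              exact hstep g (hl g (List.mem_cons_self ..)) q (ih q hq)
            · exact ihl (fun g' hg' => hl g' (List.mem_cons_of_mem _ hg')) h
        exact aux gens (fun _ h => h) hp
  exact fun p => hn 12 p (grow_all ▸ mem_univ p)

/-- Additive maps agreeing on the frame agree. -/
theorem hom_ext8 {F F' : leechLattice →+ leechLattice} (h : ∀ i, F (e8 i) = F' (e8 i)) : F = F' := by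
  refine AddMonoidHom.ext fun v => ?_
  have h8 : (8 : ℤ) • F v = (8 : ℤ) • F' v := by
    rw [← map_zsmul, ← map_zsmul, eight_smul, map_sum, map_sum]
    exact sum_congr rfl fun i _ => by rw [map_zsmul, map_zsmul, h]
  refine Subtype.ext (funext fun k => ?_)
  have := congrFun (congrArg Subtype.val h8) k
  simpa using this

theorem dotInt_smul_left (a : ℤ) (x : leechLattice) (y : GolayPt → ℤ) :
    dotInt (co (a • x)) y = a * dotInt (co x) y := by
  simp only [dotInt, co, mul_sum, AddSubgroup.coe_zsmul, Pi.smul_apply, smul_eq_mul]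
  exact sum_congr rfl fun k _ => by ring

theorem dotInt_sum_left {κ : Type*} (s : Finset κ) (x : κ → leechLattice) (y : GolayPt → ℤ) :
    dotInt (co (∑ i ∈ s, x i)) y = ∑ i ∈ s, dotInt (co (x i)) y := by
  simp only [dotInt, co, AddSubgroup.val_finsetSum, Finset.sum_apply, sum_mul]
  exact sum_comm

theorem zsmul_cancel {a : ℤ} (ha : a ≠ 0) {x y : leechLattice} (h : a • x = a • y) : x = y := by
  refine Subtype.ext (funext fun k => mul_left_cancel₀ ha ?_)
  simpa using congrFun (congrArg Subtype.val h) k

section Frame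

variable (f : GolayPt → leechLattice)

/-- The map sending the standard frame to the lines. -/
def frameMap : leechLattice →+ leechLattice :=
  AddMonoidHom.mk' (fun v => ∑ i, co v i • f i) fun v w => by
    simp only [co, AddSubgroup.coe_add, Pi.add_apply, add_smul, sum_add_distrib]

theorem frameMap_e8 (i : GolayPt) : frameMap f (e8 i) = (8 : ℤ) • f i := by
  show ∑ j, co (e8 i) j • f j = _
  rw [sum_eq_single i (fun j _ hj => by simp [co, e8, hj]) (by simp)]
  simp [co, e8]

variable {f} {n : ℤ} (horth : ∀ i j, i ≠ j → dotInt (co (f i)) (co (f j)) = 0)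
  (hnorm : ∀ i, dotInt (co (f i)) (co (f i)) = n) (hn : n ≠ 0)

include horth hnorm in
theorem frameMap_dot (v : leechLattice) (j : GolayPt) : dotInt (co (frameMap f v)) (co (f j)) = co v j * n := by
  show dotInt (co (∑ i, co v i • f i)) _ = _
  rw [dotInt_sum_left, sum_eq_single j (fun i _ hi => by rw [dotInt_smul_left, horth i j hi, mul_zero]) (by simp),
    dotInt_smul_left, hnorm]

include horth hnorm in
theorem frameMap_norm (v : leechLattice) : Cfsg.sqNorm (co (frameMap f v)) = n * Cfsg.sqNorm (co v) := by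
  rw [← dotInt_self]
  show dotInt (co (∑ i, co v i • f i)) _ = _
  rw [dotInt_sum_left]
  simp only [dotInt_smul_left, dotInt_comm' (co (f _)) (co (frameMap f v)), frameMap_dot horth hnorm, Cfsg.sqNorm,
    mul_sum]
  exact sum_congr rfl fun i _ => by ring

include horth hnorm hn in
/-- The lines span. -/
theorem expand (x : leechLattice) : n • x = ∑ i, dotInt (co x) (co (f i)) • f i := by
  set y : leechLattice := n • x - ∑ i, dotInt (co x) (co (f i)) • f i with hy
  by_contra hne
  have hy0 : co y ≠ 0 := fun h => hne (sub_eq_zero.mp (Subtype.ext h))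
  have hyj : ∀ j, dotInt (co y) (co (f j)) = 0 := fun j => by
    have : dotInt (co y) (co (f j)) =
        dotInt (co (n • x)) (co (f j)) - dotInt (co (∑ i, dotInt (co x) (co (f i)) • f i)) (co (f j)) := by
      simp only [hy, co, dotInt, AddSubgroupClass.coe_sub, Pi.sub_apply, sub_mul, sum_sub_distrib]
    rw [this, dotInt_smul_left, dotInt_sum_left,
      sum_eq_single j (fun i _ hi => by rw [dotInt_smul_left, horth i j hi, mul_zero]) (by simp), dotInt_smul_left,
      hnorm]
    ring
  have := orth_card (fun o : Option GolayPt => o.elim (co y) fun j => co (f j))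
    (fun o => by
      rcases o with _ | j
      · exact hy0
      · exact fun h => hn (by rw [← hnorm j, show co (f j) = 0 from h]; simp [dotInt]))
    (fun o o' hoo => by
      rcases o with _ | i <;> rcases o' with _ | j <;> simp only [Option.elim]
      · exact absurd rfl hoo
      · exact hyj j
      · rw [dotInt_comm']; exact hyj i
      · exact horth i j fun h => hoo (by rw [h]))
  simp at this

end Frame

set_option maxHeartbeats 1000000 in
/-- Intertwining on the monomial group and on the tetrad map up to a sign gives intertwining. -/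
theorem intertwine_all (ψ : Co0 ≃* Co0) (A : leechLattice →+ leechLattice)
    (hmono : ∀ g ∈ monoGroup, ∀ v, A (g • v) = ψ g • A v)
    (hη' : ∃ t : ℤ, (t = 1 ∨ t = -1) ∧ ∀ v, A (tetAut • v) = t • ψ tetAut • A v) :
    ∀ g : Co0, ∀ v, A (g • v) = ψ g • A v := by
  let S : Subgroup Co0 :=
    { carrier := {g | ∃ t : ℤ, (t = 1 ∨ t = -1) ∧ ∀ v, A (g • v) = t • ψ g • A v}
      one_mem' := ⟨1, Or.inl rfl, fun v => by rw [map_one, one_smul, one_smul, one_smul]⟩
      mul_mem' := by
        rintro a b ⟨s, hs, ha⟩ ⟨t, ht, hb⟩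
        refine ⟨s * t, by rcases hs with rfl | rfl <;> rcases ht with rfl | rfl <;> simp, fun v => ?_⟩
        rw [mul_smul a b v, ha, hb, smul_zsmul', smul_smul, map_mul, mul_smul (ψ a)]
      inv_mem' := by
        rintro a ⟨s, hs, ha⟩
        refine ⟨s, hs, fun v => ?_⟩
        have h := ha (a⁻¹ • v)
        rw [smul_inv_smul] at h
        rw [h, smul_zsmul', map_inv, inv_smul_smul, smul_smul,
          show s * s = 1 by rcases hs with rfl | rfl <;> rfl, one_smul] }
  have hS : S = ⊤ := by
    have hle : monoGroup ≤ S := fun g hg => ⟨1, Or.inl rfl, fun v => by rw [hmono g hg v, one_smul]⟩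
    refine isCoatom_monoGroup.2 S (lt_of_le_of_ne hle fun h => ?_)
    obtain ⟨c, hc, hcodd⟩ := exists_odd_octad
    refine tetFlip_outside hc.1 hcodd ?_
    have : tetFlip hc.1 ∈ S := by
      rw [tetFlip, tetAut_inv]
      exact mul_mem (mul_mem hη' (hle (mono_mem_monoGroup _ _))) hη'
    rwa [← h] at this
  have hcomm : commutator Co0 ≤
      { carrier := {g | ∀ v, A (g • v) = ψ g • A v}
        one_mem' := fun v => by rw [map_one, one_smul, one_smul]
        mul_mem' := fun {a b} ha hb v => by rw [mul_smul a b v, ha, hb, map_mul, mul_smul (ψ a)]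
        inv_mem' := fun {a} ha v => by
          have h := ha (a⁻¹ • v)
          rw [smul_inv_smul] at h
          rw [h, map_inv, inv_smul_smul] } := by
    rw [commutator_def, Subgroup.commutator_le]
    intro a _ b _ v
    obtain ⟨s, hs, ha⟩ := (hS.ge (Subgroup.mem_top a) : a ∈ S)
    obtain ⟨t, ht, hb⟩ := (hS.ge (Subgroup.mem_top b) : b ∈ S)
    have hai : ∀ w, A (a⁻¹ • w) = s • ψ a⁻¹ • A w := fun w => by
      have h := ha (a⁻¹ • w)
      rw [smul_inv_smul] at h
      rw [h, smul_zsmul', map_inv, inv_smul_smul, smul_smul,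
        show s * s = 1 by rcases hs with rfl | rfl <;> rfl, one_smul]
    have hbi : ∀ w, A (b⁻¹ • w) = t • ψ b⁻¹ • A w := fun w => by
      have h := hb (b⁻¹ • w)
      rw [smul_inv_smul] at h
      rw [h, smul_zsmul', map_inv, inv_smul_smul, smul_smul,
        show t * t = 1 by rcases ht with rfl | rfl <;> rfl, one_smul]
    show A ((a * b * a⁻¹ * b⁻¹) • v) = ψ (a * b * a⁻¹ * b⁻¹) • A v
    have hz : ∀ (p q : ℤ) (x : leechLattice), p • q • x = (p * q) • x := fun p q x => smul_smul p q x
    have hm : ∀ (p q : Co0) (x : leechLattice), (p * q) • x = p • q • x := fun p q x => mul_smul p q x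
    simp only [hm, map_mul, ha, hb, hai, hbi, smul_zsmul', hz]
    rw [show s * (t * (s * t)) = 1 by rcases hs with rfl | rfl <;> rcases ht with rfl | rfl <;> rfl, one_smul]
  rw [commutator_co0] at hcomm
  exact fun g => hcomm (Subgroup.mem_top g)

/-- Some map scales norms, intertwines the two actions, and has image of finite index. -/
theorem exists_intertwiner (ψ : Co0 ≃* Co0) : ∃ (A : leechLattice →+ leechLattice) (r s m : ℤ), 0 < r ∧ 0 < s ∧
    0 < m ∧ (∀ v, r * Cfsg.sqNorm (co (A v)) = s * Cfsg.sqNorm (co v)) ∧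
    (∀ (g : Co0) v, A (g • v) = ψ g • A v) ∧ ∀ v, ∃ w, A w = m • v := by
  obtain ⟨f, hf0, heig, hperm, hnorm'⟩ := exists_lines ψ
  set n := dotInt (co (f none)) (co (f none)) with hndef
  have hn0 : n ≠ 0 := dotInt_self_ne fun h => hf0 none (Subtype.ext h)
  have hnpos : 0 < n := lt_of_le_of_ne (sum_nonneg fun i _ => mul_self_nonneg _) (Ne.symm hn0)
  have horth : ∀ i j, i ≠ j → dotInt (co (f i)) (co (f j)) = 0 := fun i j hij =>
    Eig.orth ψ (heig i) (heig j) (by simpa using hij) (by simp) (by simp)
  set A := frameMap f with hA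
  have hflip : ∀ (c : Finset GolayPt) (hc : c ∈ code) (i : GolayPt),
      ψ (mono (one_mem M24) hc) • f i = (if i ∈ c then -1 else 1 : ℤ) • f i := fun c hc i => by
    rw [heig i c hc, chi_singleton]
  have hmono : ∀ g ∈ monoGroup, ∀ v, A (g • v) = ψ g • A v := by
    intro g hg
    have hE : A.comp (toHom g) = (toHom (ψ g)).comp A := by
      refine hom_ext8 fun i => ?_
      show A (g • e8 i) = ψ g • A (e8 i)
      obtain ⟨σ, _, ⟨c, hc, rfl⟩, rfl⟩ := monoGroup_cases hg
      rw [map_mul, mul_smul, mul_smul, hA, frameMap_e8, smul_zsmul', hperm, smul_zsmul', hflip c hc,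
        show permEmb σ • e8 i = e8 ((σ : Equiv.Perm GolayPt) i) by
          show mono σ.2 empty_mem_code • e8 i = _; rw [monoFun_e8, if_neg (notMem_empty _)],
        monoFun_e8]
      by_cases h : (σ : Equiv.Perm GolayPt) i ∈ c
      · rw [if_pos h, if_pos (show (1 : Equiv.Perm GolayPt) ((σ : Equiv.Perm GolayPt) i) ∈ c from h),
          Equiv.Perm.one_apply, map_neg, frameMap_e8, neg_smul, one_smul, smul_neg]
      · rw [if_neg h, if_neg (show (1 : Equiv.Perm GolayPt) ((σ : Equiv.Perm GolayPt) i) ∉ c from h),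
          Equiv.Perm.one_apply, frameMap_e8, one_smul]
    exact fun v => DFunLike.congr_fun hE v
  set η := tetAut with hη
  have hηη : η * η = 1 := by
    have := inv_mul_cancel η
    rwa [tetAut_inv] at this
  set T : leechLattice →+ leechLattice := (toHom (ψ η)).comp (A.comp (toHom η)) with hT
  have hTK : ∀ k ∈ monoGroup, η * k * η ∈ monoGroup → ∀ v, T (k • v) = ψ k • T v := by
    intro k _ hk' v
    show ψ η • A (η • k • v) = ψ k • ψ η • A (η • v)
    rw [show η • k • v = (η * k * η) • η • v by
      simp only [← mul_smul, mul_assoc, hηη, mul_one], hmono _ hk', ← mul_smul, ← mul_smul, ← map_mul, ← map_mul]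
    congr 2
    rw [← mul_assoc, ← mul_assoc, hηη, one_mul]
  -- the diagonal entries
  set d : GolayPt → ℤ := fun i => dotInt (co (T (e8 i))) (co (f i)) with hd
  have hdiag : ∀ i, n • T (e8 i) = d i • f i := by
    intro i
    rw [expand horth (fun j => hnorm' j) hn0]
    refine sum_eq_single i (fun j _ hj => ?_) (by simp)
    obtain ⟨m, hm, hsep⟩ := evens_sep i j (Ne.symm hj)
    have hok := List.all_eq_true.mp evens_ok m hm
    simp only [Bool.and_eq_true, decide_eq_true_eq] at hok
    obtain ⟨⟨hlt, hin⟩, hmon⟩ := hok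
    have hc : pts m ∈ code := (mem_supports_iff _).mpr (by rw [mk_pts hlt]; exact hin)
    have hkey := hTK _ (mono_mem_monoGroup _ _) (conj_mem_monoGroup (one_mem M24) hc hmon) (e8 i)
    have hdot := dot_smul (ψ (mono (one_mem M24) hc)) (T (e8 i)) (f j)
    rw [← hkey, monoFun_e8, Equiv.Perm.one_apply, hflip _ hc j] at hdot
    have hzero : dotInt (co (T (e8 i))) (co (f j)) = 0 := by
      simp only [mem_pts] at hdot
      rcases Bool.eq_false_or_eq_true (m.testBit (pidx i)) with a | a <;>
        rcases Bool.eq_false_or_eq_true (m.testBit (pidx j)) with b | b <;> simp only [a, b] at hsep hdot ⊢ <;>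
        first
          | exact absurd rfl hsep
          | (simp only [if_true, Bool.false_eq_true, if_false, map_neg, one_smul, neg_smul, AddSubgroup.coe_neg,
               dotInt, co, Pi.neg_apply, mul_neg, neg_mul, sum_neg_distrib] at hdot ⊢
             omega)
    rw [hzero, zero_smul]
  have hconst : ∀ i, d i = d none := by
    refine gens_orbit rfl fun g hg p hp => ?_
    have hok := List.all_eq_true.mp gens_ok g hg
    simp only [Bool.and_eq_true] at hok
    have hσ := toP_mem_M24 hok.1
    have hkey := hTK _ (mono_mem_monoGroup _ _) (conj_mem_monoGroup hσ empty_mem_code hok.2) (e8 p)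
    rw [monoFun_e8, if_neg (notMem_empty _)] at hkey
    refine Eq.trans ?_ hp
    show dotInt (co (T (e8 (toP g p)))) (co (f (toP g p))) = dotInt (co (T (e8 p))) (co (f p))
    rw [hkey, ← hperm ⟨toP g, hσ⟩ p]
    exact dot_smul _ _ _
  have hsign : d none = 8 * n ∨ d none = -(8 * n) := by
    have h1 : Cfsg.sqNorm (co (T (e8 none))) = n * 64 := by
      rw [show T (e8 none) = ψ η • A (η • e8 none) from rfl, ← dotInt_self, dot_smul, dotInt_self,
        hA, frameMap_norm horth (fun j => hnorm' j), ← dotInt_self, dot_smul, dotInt_self, sqNorm_e8]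
    have key : ∀ (z : ℤ) (x : leechLattice), Cfsg.sqNorm (co (z • x)) = z * z * Cfsg.sqNorm (co x) := fun z x => by
      simp only [Cfsg.sqNorm, co, mul_sum, AddSubgroup.coe_zsmul, Pi.smul_apply, smul_eq_mul]
      exact sum_congr rfl fun k _ => by ring
    have h2 : n * n * Cfsg.sqNorm (co (T (e8 none))) = d none * d none * n := by
      have h := congrArg (fun x : leechLattice => Cfsg.sqNorm (co x)) (hdiag none)
      simp only [key] at h
      rw [h, ← dotInt_self]
    rw [h1] at h2
    have h3 : (8 * n) * (8 * n) = d none * d none := mul_right_cancel₀ hn0 (by linarith)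
    exact (mul_self_eq_mul_self_iff.mp h3.symm)
  have hη' : ∃ t : ℤ, (t = 1 ∨ t = -1) ∧ ∀ v, A (η • v) = t • ψ η • A v := by
    obtain ⟨t, ht, hdt⟩ : ∃ t : ℤ, (t = 1 ∨ t = -1) ∧ d none = t * (8 * n) := by
      rcases hsign with h | h
      · exact ⟨1, Or.inl rfl, by rw [h, one_mul]⟩
      · exact ⟨-1, Or.inr rfl, by rw [h]; ring⟩
    have hTA : T = t • A := by
      refine hom_ext8 fun i => zsmul_cancel hn0 ?_
      rw [hdiag, hconst, hdt, AddMonoidHom.smul_apply, hA, frameMap_e8, smul_smul, smul_smul]
      congr 1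
      ring
    refine ⟨t, ht, fun v => ?_⟩
    have := congrArg (fun x => ψ η • x) (DFunLike.congr_fun hTA v)
    simp only [hT, AddMonoidHom.comp_apply, AddMonoidHom.smul_apply] at this
    change ψ η • ψ η • A (η • v) = ψ η • t • A v at this
    rw [smul_smul, ← map_mul, hηη, map_one, one_smul, smul_zsmul'] at this
    exact this
  have hall : ∀ g : Co0, ∀ v, A (g • v) = ψ g • A v := intertwine_all ψ A hmono hη'
  refine ⟨A, 1, n, 8 * n, one_pos, hnpos, by omega, fun v => ?_, hall, fun v => ?_⟩
  · rw [one_mul, hA, frameMap_norm horth fun j => hnorm' j]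
  · refine ⟨∑ i, dotInt (co v) (co (f i)) • e8 i, ?_⟩
    rw [map_sum, mul_smul, expand horth (fun j => hnorm' j) hn0, Finset.smul_sum]
    exact sum_congr rfl fun i _ => by rw [map_zsmul, hA, frameMap_e8, smul_comm]

end Cfsg.Lib.Leech.OutCo1
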