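import Cfsg.Agent.Leech.OutCo1.Frame
import Cfsg.Agent.Leech.Irreducible
import Cfsg.Agent.Leech.Mult.Co1

/-!
An intertwiner divided as far as possible is a lattice automorphism: every automorphism of the quotient by the
centre is inner.
-/

set_option autoImplicit false

namespace Cfsg.Lib.Leech.OutCo1

open Cfsg Cfsg.Lib.Golay Cfsg.Lib.Leech Finset
open scoped commutatorElement

/-- An intertwiner that scales norms and whose image contains all multiples by `m`. -/
def Good (ψ : Co0 ≃* Co0) (A : leechLattice →+ leechLattice) (r s : ℤ) (m : ℕ) : Prop :=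
  0 < r ∧ 0 < s ∧ 0 < m ∧ (∀ v, r * Cfsg.sqNorm (co (A v)) = s * Cfsg.sqNorm (co v)) ∧
    (∀ (g : Co0) v, A (g • v) = ψ g • A v) ∧ ∀ v, ∃ w, A w = (m : ℤ) • v

/-- The image together with the multiples by `p`. -/
def imgMod (A : leechLattice →+ leechLattice) (p : ℤ) : AddSubgroup leechLattice :=
  A.range ⊔ (zsmulAddGroupHom p : leechLattice →+ leechLattice).range

theorem mem_imgMod_iff {A : leechLattice →+ leechLattice} {p : ℤ} {x : leechLattice} :
    x ∈ imgMod A p ↔ ∃ w u, A w + p • u = x := by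
  simp only [imgMod, AddSubgroup.mem_sup, AddMonoidHom.mem_range]
  constructor
  · rintro ⟨_, ⟨w, rfl⟩, _, ⟨u, rfl⟩, rfl⟩; exact ⟨w, u, rfl⟩
  · rintro ⟨w, u, rfl⟩; exact ⟨_, ⟨w, rfl⟩, _, ⟨u, rfl⟩, rfl⟩

theorem imgMod_smul {ψ : Co0 ≃* Co0} {A : leechLattice →+ leechLattice} {p : ℤ}
    (hA : ∀ (g : Co0) v, A (g • v) = ψ g • A v) (g : Co0) {x : leechLattice} (hx : x ∈ imgMod A p) :
    g • x ∈ imgMod A p := by
  obtain ⟨w, u, rfl⟩ := mem_imgMod_iff.mp hx
  refine mem_imgMod_iff.mpr ⟨ψ.symm g • w, g • u, ?_⟩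
  rw [hA, MulEquiv.apply_symm_apply, ← smul_zsmul']
  exact ((toHom g).map_add _ _).symm

theorem imgMod_two {ψ : Co0 ≃* Co0} {A : leechLattice →+ leechLattice}
    (hA : ∀ (g : Co0) v, A (g • v) = ψ g • A v) (hnd : ∃ v, ∀ u, A v ≠ (2 : ℤ) • u) : imgMod A 2 = ⊤ := by
  rcases irreducible_mod_two ((imgMod A 2).map leechLattice.subtype)
    (fun v hv => ⟨(2 : ℤ) • ⟨v, hv⟩, mem_imgMod_iff.mpr ⟨0, ⟨v, hv⟩, by rw [map_zero, zero_add]⟩, rfl⟩)
    (fun x ⟨y, _, hy⟩ => hy ▸ y.2)
    (fun g v ⟨y, hy, he⟩ => ⟨g • y, imgMod_smul hA g hy, by rw [show y = v from Subtype.ext he]; rfl⟩) with h | h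
  · obtain ⟨v, hv⟩ := hnd
    obtain ⟨w, hw, he⟩ := h (A v : GolayPt → ℤ) ⟨A v, mem_imgMod_iff.mpr ⟨v, 0, by rw [zsmul_zero, add_zero]⟩, rfl⟩
    exact absurd (Subtype.ext he) (hv ⟨w, hw⟩)
  · refine top_le_iff.mp fun x _ => ?_
    obtain ⟨y, hy, he⟩ : (x : GolayPt → ℤ) ∈ (imgMod A 2).map leechLattice.subtype := by rw [h]; exact x.2
    rwa [← Subtype.ext he]

theorem imgMod_odd {ψ : Co0 ≃* Co0} {A : leechLattice →+ leechLattice} {p : ℕ} (hp : p.Prime) (hp2 : p ≠ 2)
    (hA : ∀ (g : Co0) v, A (g • v) = ψ g • A v) (hnd : ∃ v, ∀ u, A v ≠ (p : ℤ) • u) : imgMod A p = ⊤ := by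
  classical
  obtain ⟨v, hv⟩ := hnd
  set M := imgMod A p
  set x := A v with hx
  have hxM : x ∈ M := mem_imgMod_iff.mpr ⟨v, 0, by rw [zsmul_zero, add_zero]⟩
  have hcop8 : IsCoprime (8 : ℤ) p := by
    rw [show (8 : ℤ) = ((2 ^ 3 : ℕ) : ℤ) by norm_num, Nat.isCoprime_iff_coprime]
    exact ((Nat.coprime_primes Nat.prime_two hp).mpr (Ne.symm hp2)).pow_left 3
  have hpM : ∀ u : leechLattice, (p : ℤ) • u ∈ M := fun u =>
    mem_imgMod_iff.mpr ⟨0, u, by rw [map_zero, zero_add]⟩
  obtain ⟨i, hi⟩ : ∃ i, ¬ (p : ℤ) ∣ co x i := by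
    by_contra h
    push Not at h
    choose y hy using h
    obtain ⟨a, b, hab⟩ := hcop8
    have he : (y : GolayPt → ℤ) = a • (fun k => 8 * y k) + b • (x : GolayPt → ℤ) := funext fun k => by
      simp only [Pi.add_apply, Pi.smul_apply, smul_eq_mul]
      rw [show (x : GolayPt → ℤ) k = p * y k from hy k]
      linear_combination (-(y k)) * hab
    have hmem : (y : GolayPt → ℤ) ∈ leechLattice := by
      rw [he]
      exact add_mem (AddSubgroup.zsmul_mem _ (mem_of_eight_dvd fun k => dvd_mul_right _ _) a)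
        (AddSubgroup.zsmul_mem _ x.2 b)
    exact hv ⟨y, hmem⟩ (Subtype.ext (funext fun k => by simpa using hy k))
  have hsep : ∀ T : Finset GolayPt, i ∉ T → ∃ z ∈ M, ¬ (p : ℤ) ∣ co z i ∧ ∀ j ∈ T, co z j = 0 := by
    intro T
    induction T using Finset.induction with
    | empty => exact fun _ => ⟨x, hxM, hi, by simp⟩
    | insert j T hj ih =>
      intro hiT
      rw [Finset.mem_insert, not_or] at hiT
      obtain ⟨z, hz, hzi, hzT⟩ := ih hiT.2
      obtain ⟨c, hc, hcs⟩ := exists_code_sep hiT.1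
      set e : ℤ := if i ∈ c then -1 else 1 with he
      refine ⟨z + e • (mono (one_mem M24) hc • z), add_mem hz (M.zsmul_mem (imgMod_smul hA _ hz) e), ?_, ?_⟩
      · have : co (z + e • (mono (one_mem M24) hc • z)) i = 2 * co z i := by
          simp only [co, AddSubgroup.coe_add, AddSubgroup.coe_zsmul, mono_apply, Pi.add_apply, Pi.smul_apply,
            signedPerm, show (1 : Equiv.Perm GolayPt).symm i = i from rfl, he, smul_eq_mul]
          split <;> ring
        rw [this]
        intro h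
        rcases (Nat.prime_iff_prime_int.mp hp).dvd_or_dvd h with h | h
        · exact hp2 ((Nat.prime_dvd_prime_iff_eq hp Nat.prime_two).mp (Int.natCast_dvd_natCast.mp h))
        · exact hzi h
      · intro k hk
        simp only [co, AddSubgroup.coe_add, AddSubgroup.coe_zsmul, mono_apply, Pi.add_apply, Pi.smul_apply,
          signedPerm, show (1 : Equiv.Perm GolayPt).symm k = k from rfl, he, smul_eq_mul]
        rcases Finset.mem_insert.mp hk with rfl | hk
        · by_cases a : i ∈ c <;> by_cases b : k ∈ c <;> simp_all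
        · have := hzT k hk
          simp only [co] at this
          simp [this]
  obtain ⟨z, hz, hzi, hz0⟩ := hsep (Finset.univ.erase i) (Finset.notMem_erase i _)
  have hei : e8 i ∈ M := by
    have h8 : (8 : ℤ) • z = co z i • e8 i := by
      rw [eight_smul]
      exact Finset.sum_eq_single i (fun j _ hj => by
        rw [show (z : GolayPt → ℤ) j = 0 from hz0 j (Finset.mem_erase.mpr ⟨hj, Finset.mem_univ j⟩), zero_smul])
        (by simp)
    obtain ⟨a, b, hab⟩ : IsCoprime (co z i) (p : ℤ) :=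
      ((Nat.prime_iff_prime_int.mp hp).coprime_iff_not_dvd.mpr hzi).symm
    rw [show e8 i = a • ((8 : ℤ) • z) + b • ((p : ℤ) • e8 i) by
      rw [h8, smul_smul, smul_smul, ← add_smul, hab, one_smul]]
    exact add_mem (M.zsmul_mem (M.zsmul_mem hz _) _) (M.zsmul_mem (hpM _) _)
  have hej : ∀ j, e8 j ∈ M := fun j => by
    obtain ⟨σ, hσ, hij⟩ := M24_pretransitive i j
    have := imgMod_smul hA (mono hσ empty_mem_code) hei
    rwa [monoFun_e8, if_neg (notMem_empty _), hij] at this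
  refine top_le_iff.mp fun u _ => ?_
  obtain ⟨a, b, hab⟩ := hcop8
  rw [show u = a • ((8 : ℤ) • u) + b • ((p : ℤ) • u) by rw [smul_smul, smul_smul, ← add_smul, hab, one_smul]]
  refine add_mem (M.zsmul_mem ?_ _) (M.zsmul_mem (hpM _) _)
  rw [eight_smul]
  exact sum_mem fun j _ => M.zsmul_mem (hej j) _

/-- An automorphism of the cover is conjugation by a lattice automorphism. -/
theorem exists_conj (ψ : Co0 ≃* Co0) : ∃ B : Co0, ∀ g, ψ g = B * g * B⁻¹ := by
  classical
  obtain ⟨A₀, r₀, s₀, m₀, hr₀, hs₀, hm₀, hn₀, he₀, hi₀⟩ := exists_intertwiner ψ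
  have hex : ∃ N : ℕ, ∃ A r s m, Good ψ A r s m ∧ (Cfsg.sqNorm (co (A (e8 none)))).toNat = N :=
    ⟨_, A₀, r₀, s₀, m₀.toNat, ⟨hr₀, hs₀, by omega, hn₀, he₀, by rwa [Int.toNat_of_nonneg hm₀.le]⟩, rfl⟩
  obtain ⟨A, r, s, m, ⟨hr, hs, hm, hnorm, heq, himg⟩, hN⟩ := Nat.find_spec hex
  have hpos : 0 < Cfsg.sqNorm (co (A (e8 none))) := by
    have h := hnorm (e8 none)
    rw [show Cfsg.sqNorm (co (e8 none)) = 64 from sqNorm_e8 none] at h
    by_contra hle
    push Not at hle
    have := mul_nonpos_of_nonneg_of_nonpos hr.le hle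
    omega
  have hinj : ∀ v, A v = 0 → v = 0 := fun v hv => by
    have h := hnorm v
    rw [show Cfsg.sqNorm (co (A v)) = 0 by rw [hv]; simp [Cfsg.sqNorm, co], mul_zero] at h
    by_contra hne
    have := thirtytwo_le_sqNorm v.2 fun h => hne (Subtype.ext h)
    have := mul_pos hs (show 0 < Cfsg.sqNorm (co v) from lt_of_lt_of_le (by norm_num : (0 : ℤ) < 32) this)
    omega
  have hnd : ∀ p : ℕ, p.Prime → ∃ v, ∀ u, A v ≠ (p : ℤ) • u := by
    intro p hp
    by_contra hall
    push Not at hall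
    choose A' hA' using hall
    have hp0 : (p : ℤ) ≠ 0 := by exact_mod_cast hp.pos.ne'
    let Ah : leechLattice →+ leechLattice := AddMonoidHom.mk' A' fun a b => zsmul_cancel hp0 (by
      rw [← hA', map_add, smul_add, ← hA', ← hA'])
    have hsq : ∀ v, Cfsg.sqNorm (co (A v)) = (p : ℤ) * p * Cfsg.sqNorm (co (Ah v)) := fun v => by
      rw [hA' v]
      simp only [Cfsg.sqNorm, co, mul_sum, AddSubgroup.coe_zsmul, Pi.smul_apply, smul_eq_mul]
      exact sum_congr rfl fun k _ => by show _ = (p : ℤ) * p * (A' v : GolayPt → ℤ) k ^ 2; ring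
    refine Nat.find_min hex (m := (Cfsg.sqNorm (co (Ah (e8 none)))).toNat) ?_
      ⟨Ah, r * (p * p), s, m, ⟨by positivity, hs, hm, fun v => by rw [mul_assoc, ← hsq]; exact hnorm v,
        fun g v => zsmul_cancel hp0 (by
          show (p : ℤ) • A' (g • v) = (p : ℤ) • (ψ g • A' v)
          rw [← hA', heq, hA' v, smul_zsmul']),
        fun v => ?_⟩, rfl⟩
    · rw [← hN]
      have h2 : (4 : ℤ) ≤ (p : ℤ) * p := by
        have : (2 : ℤ) ≤ p := by exact_mod_cast hp.two_le
        nlinarith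
      have h1 := hsq (e8 none)
      have h0 : 0 ≤ Cfsg.sqNorm (co (Ah (e8 none))) := sum_nonneg fun i _ => sq_nonneg _
      have : Cfsg.sqNorm (co (Ah (e8 none))) < Cfsg.sqNorm (co (A (e8 none))) := by nlinarith
      omega
    · obtain ⟨w, hw⟩ := himg v
      refine ⟨(p : ℤ) • w, ?_⟩
      show Ah ((p : ℤ) • w) = _
      rw [map_zsmul]
      show (p : ℤ) • A' w = _
      rw [← hA', hw]
  have hp : ∀ p : ℕ, p.Prime → imgMod A p = ⊤ := fun p hp => by
    by_cases h2 : p = 2
    · subst h2; exact_mod_cast imgMod_two heq (hnd 2 Nat.prime_two)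
    · exact imgMod_odd hp h2 heq (hnd p hp)
  have hsurj : ∀ v, ∃ w, A w = v := by
    have key : ∀ k : ℕ, 0 < k → (∀ v, ∃ w, A w = (k : ℤ) • v) → ∀ v, ∃ w, A w = v := by
      intro k
      induction k using Nat.strong_induction_on with
      | _ k ih =>
        intro hk himgk v
        by_cases h1 : k = 1
        · obtain ⟨w, hw⟩ := himgk v
          exact ⟨w, by rw [hw, h1, Nat.cast_one, one_smul]⟩
        obtain ⟨p, hpp, l, rfl⟩ := Nat.exists_prime_and_dvd h1
        have hl : 0 < l := Nat.pos_of_mul_pos_left hk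
        refine ih l (by nlinarith [hpp.two_le]) hl (fun u => ?_) v
        obtain ⟨w, u', he⟩ := mem_imgMod_iff.mp ((hp p hpp).ge (AddSubgroup.mem_top u))
        obtain ⟨w', hw'⟩ := himgk u'
        refine ⟨(l : ℤ) • w + w', ?_⟩
        rw [map_add, map_zsmul, hw', ← he, smul_add, smul_smul, Nat.cast_mul, mul_comm (p : ℤ)]
    exact key m hm himg
  have hrs : r = s := by
    have hb : ∀ v : leechLattice, v ≠ 0 → (32 : ℤ) ≤ Cfsg.sqNorm (co v) := fun v hv =>
      thirtytwo_le_sqNorm v.2 fun h => hv (Subtype.ext h)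
    let u : leechLattice := Spor.leechU
    have hu : Cfsg.sqNorm (co u) = 32 := by
      show Cfsg.sqNorm Spor.vecU = 32
      decide +kernel
    have hu0 : u ≠ 0 := fun h => by
      have e : Cfsg.sqNorm (co u) = 0 := by rw [h]; simp [Cfsg.sqNorm, co]
      omega
    have h1 := hnorm u
    have h2 := hb (A u) fun h => hu0 (hinj u h)
    obtain ⟨w, hw⟩ := hsurj u
    have h3 := hnorm w
    have h4 := hb w fun h => hu0 (by rw [← hw, h, map_zero])
    rw [hu] at h1
    rw [hw, hu] at h3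
    nlinarith
  have hbij : Function.Bijective A :=
    ⟨fun a b h => sub_eq_zero.mp (hinj _ (by rw [map_sub, h, sub_self])), hsurj⟩
  refine ⟨⟨Equiv.ofBijective A hbij, fun v w => map_add A v w, fun v => ?_⟩, fun g => ?_⟩
  · have h := hnorm v
    rw [hrs] at h
    exact mul_left_cancel₀ hs.ne' h
  · rw [eq_mul_inv_iff_mul_eq]
    refine co0_ext fun v => ?_
    rw [mul_smul, mul_smul]
    exact (heq g v).symm

theorem finite_co0 : Finite Co0 := Nat.finite_of_card_ne_zero (by rw [card_co0]; norm_num)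

theorem commutator_mul_center {G : Type*} [Group G] {c z d w : G} (hz : z ∈ Subgroup.center G)
    (hw : w ∈ Subgroup.center G) : c * z * (d * w) * (c * z)⁻¹ * (d * w)⁻¹ = c * d * c⁻¹ * d⁻¹ := by
  have hz' := Subgroup.mem_center_iff.mp hz
  have hw' := Subgroup.mem_center_iff.mp hw
  calc c * z * (d * w) * (c * z)⁻¹ * (d * w)⁻¹ = c * (z * (d * w)) * z⁻¹ * c⁻¹ * w⁻¹ * d⁻¹ := by group
    _ = c * d * (w * c⁻¹) * w⁻¹ * d⁻¹ := by rw [← hz' (d * w)]; group
    _ = _ := by rw [← hw' c⁻¹]; group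

/-- An automorphism of the quotient lifts to the cover. -/
theorem exists_lift (φ : MulAut Cfsg.Spor.Co1) :
    ∃ ψ : Co0 ≃* Co0, ∀ g, (QuotientGroup.mk (ψ g) : Cfsg.Spor.Co1) = φ (QuotientGroup.mk g) := by
  haveI := finite_co0
  let q : Co0 →* Cfsg.Spor.Co1 := QuotientGroup.mk' (Subgroup.center Co0)
  let P : Subgroup (Co0 × Co0) := MonoidHom.eqLocus ((φ.toMonoidHom.comp q).comp (MonoidHom.fst Co0 Co0))
    (q.comp (MonoidHom.snd Co0 Co0))
  let p1 : commutator P →* Co0 := ((MonoidHom.fst Co0 Co0).comp P.subtype).comp (commutator P).subtype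
  let p2 : commutator P →* Co0 := ((MonoidHom.snd Co0 Co0).comp P.subtype).comp (commutator P).subtype
  have hker : ∀ x : P, x.1.1 = 1 → x ∈ Subgroup.center P := fun x hx => Subgroup.mem_center_iff.mpr fun y => by
    have hx2 : x.1.2 ∈ Subgroup.center Co0 := by
      have h : φ (q x.1.1) = q x.1.2 := x.2
      rw [hx, map_one, map_one] at h
      exact (QuotientGroup.eq_one_iff _).mp h.symm
    refine Subtype.ext (Prod.ext ?_ (Subgroup.mem_center_iff.mp hx2 _))
    show y.1.1 * x.1.1 = x.1.1 * y.1.1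
    rw [hx, mul_one, one_mul]
  have hsurjP : ∀ a : Co0, ∃ x : P, x.1.1 = a := fun a => by
    obtain ⟨b, hb⟩ := QuotientGroup.mk_surjective (φ (q a))
    exact ⟨⟨(a, b), hb.symm⟩, rfl⟩
  have hs1 : Function.Surjective p1 := by
    rw [← MonoidHom.range_eq_top, MonoidHom.range_comp, Subgroup.range_subtype, map_commutator_eq,
      MonoidHom.range_eq_top.mpr (fun a => hsurjP a)]
    exact commutator_co0
  have hperf : commutator (commutator P) = ⊤ := by
    rw [eq_top_iff]
    rintro ⟨x, hx⟩ -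
    obtain ⟨y, hy⟩ : ∃ y ∈ (commutator (commutator P)).map (commutator P).subtype, y = x := by
      refine ⟨x, ?_, rfl⟩
      rw [map_commutator_eq, Subgroup.range_subtype]
      have hcov : ∀ a : P, ∃ c ∈ commutator P, ∃ z ∈ Subgroup.center P, a = c * z := fun a => by
        obtain ⟨c, hc⟩ := hs1 a.1.1
        refine ⟨c, c.2, (c : P)⁻¹ * a, hker _ ?_, by group⟩
        show (c : P).1.1⁻¹ * a.1.1 = 1
        rw [← hc]
        exact inv_mul_cancel _
      refine (show commutator P ≤ ⁅commutator P, commutator P⁆ from ?_) hx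
      rw [commutator_def, Subgroup.commutator_le]
      intro a _ b _
      obtain ⟨c, hc, z, hz, rfl⟩ := hcov a
      obtain ⟨d, hd, w, hw, rfl⟩ := hcov b
      rw [show ⁅c * z, d * w⁆ = ⁅c, d⁆ from by
        simp only [commutatorElement_def]; exact commutator_mul_center hz hw]
      exact Subgroup.commutator_mem_commutator hc hd
    obtain ⟨⟨z, hz, hzy⟩, he⟩ := hy
    rwa [show (⟨x, hx⟩ : commutator P) = z from Subtype.ext (hzy.trans he).symm]
  have hinj1 : Function.Injective p1 := (MonoidHom.ker_eq_bot_iff p1).mp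
    (Mult.co0_ker ⟨hs1, fun x hx => Subgroup.mem_center_iff.mpr fun y =>
      Subtype.ext (Subgroup.mem_center_iff.mp (hker x.1 (MonoidHom.mem_ker.mp hx)) y.1),
      hperf ▸ le_top⟩)
  let e := MulEquiv.ofBijective p1 ⟨hinj1, hs1⟩
  let ψ : Co0 →* Co0 := p2.comp e.symm.toMonoidHom
  have hψ : ∀ g, q (ψ g) = φ (q g) := fun g => by
    have h : φ (q (e.symm g : P).1.1) = q (e.symm g : P).1.2 := (e.symm g : P).2
    rw [show (e.symm g : P).1.1 = g from e.apply_symm_apply g] at h
    exact h.symm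
  have hsψ : Function.Surjective ψ := by
    rw [← MonoidHom.range_eq_top, eq_top_iff, ← commutator_co0, commutator_def, Subgroup.commutator_le]
    intro a _ b _
    obtain ⟨a', ha⟩ := φ.surjective (q a)
    obtain ⟨a'', rfl⟩ := QuotientGroup.mk_surjective a'
    obtain ⟨b', hb⟩ := φ.surjective (q b)
    obtain ⟨b'', rfl⟩ := QuotientGroup.mk_surjective b'
    have hza : (ψ a'')⁻¹ * a ∈ Subgroup.center Co0 := QuotientGroup.eq.mp ((hψ a'').trans ha)
    have hzb : (ψ b'')⁻¹ * b ∈ Subgroup.center Co0 := QuotientGroup.eq.mp ((hψ b'').trans hb)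
    refine ⟨⁅a'', b''⁆, ?_⟩
    have h := commutator_mul_center (c := ψ a'') (d := ψ b'') hza hzb
    rw [mul_inv_cancel_left, mul_inv_cancel_left] at h
    rw [map_commutatorElement, commutatorElement_def, commutatorElement_def, ← h]
  exact ⟨MulEquiv.ofBijective ψ ⟨Finite.injective_iff_surjective.mpr hsψ, hsψ⟩, hψ⟩

end Cfsg.Lib.Leech.OutCo1
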