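import Cfsg.Agent.Leech.Co1Simple
import Cfsg.Agent.Leech.Pairs
import Cfsg.Agent.Leech.StabClass
import Cfsg.Agent.Golay.Subgroups

/-!
A twisted action of the lattice automorphism group: common eigenvectors of the twisted sign changes form
twenty-four orthogonal lines permuted by the Mathieu group.
-/

set_option autoImplicit false

namespace Cfsg.Lib.Leech.OutCo1

open Cfsg Cfsg.Lib.Golay Cfsg.Lib.Golay.Modules Cfsg.Lib.Leech Finset
open scoped Pointwise

/-- The vector of coordinates. -/
abbrev co (v : leechLattice) : GolayPt → ℤ := v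

theorem dotInt_comm' (x y : GolayPt → ℤ) : dotInt x y = dotInt y x := by
  simp only [dotInt, mul_comm]

theorem dotInt_self (x : GolayPt → ℤ) : dotInt x x = Cfsg.sqNorm x := by
  simp only [dotInt, Cfsg.sqNorm, sq]

theorem dotInt_self_ne {x : GolayPt → ℤ} (hx : x ≠ 0) : dotInt x x ≠ 0 := by
  intro h
  refine hx (funext fun i => ?_)
  have h' : ∑ i, x i * x i = 0 := h
  rw [Finset.sum_eq_zero_iff_of_nonneg (fun i _ => mul_self_nonneg (x i))] at h'
  exact mul_self_eq_zero.mp (h' i (Finset.mem_univ i))

/-- At most twenty-four nonzero vectors are pairwise orthogonal. -/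
theorem orth_card {κ : Type*} [Fintype κ] (w : κ → GolayPt → ℤ) (h0 : ∀ k, w k ≠ 0)
    (ho : ∀ k l, k ≠ l → dotInt (w k) (w l) = 0) : Fintype.card κ ≤ 24 := by
  classical
  have hli : LinearIndependent ℤ w := by
    rw [Fintype.linearIndependent_iff]
    intro g hg l
    have h1 : ∑ k, g k * dotInt (w k) (w l) = 0 := by
      have h2 : dotInt (∑ k, g k • w k) (w l) = 0 := by rw [hg]; simp [dotInt]
      rw [← h2]
      simp only [dotInt, Finset.mul_sum, Finset.sum_mul, Finset.sum_apply, Pi.smul_apply, smul_eq_mul, mul_assoc]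
      exact Finset.sum_comm
    rw [Finset.sum_eq_single l (fun k _ hk => by rw [ho k l hk, mul_zero]) (by simp)] at h1
    exact (mul_eq_zero.mp h1).resolve_right (dotInt_self_ne (h0 l))
  have h := hli.fintype_card_le_finrank
  rw [Module.finrank_pi, Fintype.card_option, ZMod.card] at h
  exact h

theorem sign_cases {p q : Prop} [Decidable p] [Decidable q] :
    (if p then (-1 : ℤ) else 1) * (if q then (-1 : ℤ) else 1) = if (p ↔ q) then 1 else -1 := by
  by_cases hp : p <;> by_cases hq : q <;> simp [hp, hq]

/-- The parity character of a point set on the code. -/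
def chi (e c : Finset GolayPt) : ℤ := if Even (c ∩ e).card then 1 else -1

theorem chi_cases (e c : Finset GolayPt) : chi e c = 1 ∨ chi e c = -1 := by
  unfold chi; split <;> simp

theorem chi_symmDiff_code {e c d : Finset GolayPt} (hc : c ∈ code) (hd : d ∈ code) :
    chi (symmDiff e d) c = chi e c := by
  have h := card_symmDiff_add (c := c ∩ e) (d := c ∩ d)
  rw [show symmDiff (c ∩ e) (c ∩ d) = c ∩ symmDiff e d by ext i; simp only [mem_inter, mem_symmDiff]; tauto] at h
  obtain ⟨k, hk⟩ := even_card_inter hc hd
  have hiff : Even (c ∩ symmDiff e d).card ↔ Even (c ∩ e).card := by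
    rw [Nat.even_iff, Nat.even_iff]; omega
  simp only [chi, hiff]

theorem chi_singleton (c : Finset GolayPt) (i : GolayPt) : chi {i} c = if i ∈ c then -1 else 1 := by
  by_cases h : i ∈ c <;> simp [chi, inter_singleton_of_mem, inter_singleton_of_notMem, h]

theorem exists_differ {e e' : Finset GolayPt} (hne : e ≠ e') (he : e.card ≤ 3) (he' : e'.card ≤ 3) :
    ∃ c ∈ code, chi e c ≠ chi e' c := by
  by_contra hcon
  push Not at hcon
  have hmem : symmDiff e e' ∈ code := code_self_dual fun c hc => by
    have h := hcon c hc
    simp only [chi] at h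
    have h' := card_symmDiff_add (c := c ∩ e) (d := c ∩ e')
    rw [show symmDiff (c ∩ e) (c ∩ e') = c ∩ symmDiff e e' by ext i; simp only [mem_inter, mem_symmDiff]; tauto] at h'
    by_cases h1 : Even (c ∩ e).card <;> by_cases h2 : Even (c ∩ e').card <;>
      simp only [h1, h2, if_true, if_false] at h <;> first
        | omega
        | (rw [Nat.even_iff] at h1 h2 ⊢; omega)
  refine small_not_code ?_ ?_ hmem
  · rw [card_pos, nonempty_iff_ne_empty]
    exact fun h0 => hne (symmDiff_eq_bot.mp h0)
  · have := card_symmDiff_add (c := e) (d := e')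
    omega

/-- The twisting automorphism fixes negation. -/
theorem twist_negOne (ψ : Co0 ≃* Co0) : ψ negOne = negOne := by
  refine (center_cases (g := ψ negOne) (Subgroup.mem_center_iff.mpr fun g => ?_)).resolve_left ?_
  · have h := congrArg ψ (negOne_comm (ψ.symm g))
    rw [map_mul, map_mul, MulEquiv.apply_symm_apply] at h
    exact h.symm
  · intro h
    exact negOne_ne_one (ψ.injective (by rw [h, map_one]))

variable (ψ : Co0 ≃* Co0)

/-- A common eigenvector of the twisted sign changes. -/
def Eig (v : leechLattice) (e : Finset GolayPt) : Prop :=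
  ∀ (c : Finset GolayPt) (hc : c ∈ code), ψ (mono (one_mem M24) hc) • v = chi e c • v

theorem exists_signs (L : List (Finset GolayPt)) (hL : ∀ c ∈ L, c ∈ code) :
    ∃ v : leechLattice, v ≠ 0 ∧ ∀ c ∈ L, ∀ hc : c ∈ code,
      ψ (mono (one_mem M24) hc) • v = v ∨ ψ (mono (one_mem M24) hc) • v = -v := by
  induction L with
  | nil =>
    refine ⟨e8 none, fun h => ?_, by simp⟩
    have := congrFun (congrArg Subtype.val h) none
    simp [e8] at this
  | cons d L ih =>
    obtain ⟨v, hv, hall⟩ := ih fun c hc => hL c (List.mem_cons_of_mem _ hc)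
    have hd := hL d (List.mem_cons_self ..)
    set E := ψ (mono (one_mem M24) hd) with hE
    have hEE : ∀ u : leechLattice, E • E • u = u := fun u => by
      rw [smul_smul, hE, ← map_mul, flip_sq, map_one, one_smul]
    by_cases h : v + E • v = 0
    · refine ⟨v, hv, fun c hc hcc => ?_⟩
      rcases List.mem_cons.mp hc with rfl | hc
      · exact Or.inr (by rw [eq_neg_iff_add_eq_zero, add_comm]; exact h)
      · exact hall c hc hcc
    · refine ⟨v + E • v, h, fun c hc hcc => ?_⟩
      rcases List.mem_cons.mp hc with rfl | hc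
      · left
        rw [show ψ (mono (one_mem M24) hcc) = E from rfl]
        show toHom E (v + E • v) = v + E • v
        rw [map_add]
        show E • v + E • E • v = v + E • v
        rw [hEE, add_comm]
      · set F := ψ (mono (one_mem M24) hcc) with hF
        have hcomm : F • E • v = E • F • v := by
          rw [smul_smul, smul_smul, hF, hE, ← map_mul, ← map_mul, flips_comm ⟨c, hcc, rfl⟩ ⟨d, hd, rfl⟩]
        have hadd : F • (v + E • v) = F • v + F • E • v := map_add (toHom F) _ _
        rcases hall c hc hcc with h1 | h1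
        · left; rw [hadd, hcomm, h1]
        · right; rw [hadd, hcomm, h1, smul_neg', neg_add]

theorem code_finite : (code : Set (Finset GolayPt)).Finite := Set.toFinite _

theorem zmod2_sum_eq {s : Finset GolayPt} (f : GolayPt → ZMod 2) :
    ∑ i ∈ s, f i = ((s ∩ univ.filter fun i => f i = 1).card : ZMod 2) := by
  rw [show s ∩ univ.filter (fun i => f i = 1) = s.filter (fun i => f i = 1) by ext i; simp]
  have : ∀ i ∈ s, f i = if f i = 1 then 1 else 0 := fun i _ => by rcases zmod2_cases (f i) with h | h <;> simp [h]
  rw [Finset.sum_congr rfl this, Finset.sum_boole]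

/-- Some nonzero vector is a common eigenvector, with a character of odd weight at most three. -/
theorem exists_eig : ∃ (v : leechLattice) (e : Finset GolayPt), v ≠ 0 ∧ (e.card = 1 ∨ e.card = 3) ∧ Eig ψ v e := by
  classical
  obtain ⟨v, hv, hall⟩ := exists_signs ψ code_finite.toFinset.toList (fun c hc => by simpa using hc)
  have hall' : ∀ (c : Finset GolayPt) (hc : c ∈ code),
      ψ (mono (one_mem M24) hc) • v = v ∨ ψ (mono (one_mem M24) hc) • v = -v := fun c hc =>
    hall c (by simpa using hc) hc
  have hne : v ≠ -v := fun h => hv (by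
    refine Subtype.ext (funext fun i => ?_)
    have := congrFun (congrArg Subtype.val h) i
    simp only [AddSubgroup.coe_neg, Pi.neg_apply] at this
    show (v : GolayPt → ℤ) i = 0
    omega)
  let s : Finset GolayPt → ZMod 2 := fun c =>
    if h : c ∈ code then (if ψ (mono (one_mem M24) h) • v = v then 0 else 1) else 0
  have hs : ∀ (c : Finset GolayPt) (hc : c ∈ code),
      ψ (mono (one_mem M24) hc) • v = (if s c = 0 then (1 : ℤ) else -1) • v := by
    intro c hc
    by_cases h : ψ (mono (one_mem M24) hc) • v = v
    · simp only [s, dif_pos hc, if_pos h, if_true, one_smul]; exact h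
    · simp only [s, dif_pos hc, if_neg h, one_ne_zero, if_false, neg_smul, one_smul]
      exact (hall' c hc).resolve_left h
  have hsadd : ∀ (c d : Finset GolayPt), c ∈ code → d ∈ code → s (symmDiff c d) = s c + s d := by
    intro c d hc hd
    have h := hs _ (symmDiff_mem_supports hc hd)
    rw [← flip_mul hc hd, map_mul, mul_smul, hs d hd, smul_zsmul', hs c hc, smul_smul] at h
    rcases zmod2_cases (s c) with a | a <;> rcases zmod2_cases (s d) with b | b <;>
      rcases zmod2_cases (s (symmDiff c d)) with k | k <;> rw [a, b, k] at h <;> rw [a, b, k] <;>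
      first
        | decide
        | (exfalso
           simp only [one_ne_zero, if_true, if_false, one_mul, mul_one, mul_neg, neg_mul, neg_neg, one_smul,
             neg_smul] at h
           first
             | exact hne h
             | exact hne h.symm)
  let f : golayCode →ₗ[ZMod 2] ZMod 2 := AddMonoidHom.toZModLinearMap 2
    (AddMonoidHom.mk' (fun w : golayCode => s (support₂ (w : GolayPt → ZMod 2))) fun w w' => by
      show s (support₂ ((w : GolayPt → ZMod 2) + w')) = _
      rw [support₂_add, hsadd _ _ (support_mem_code w.2) (support_mem_code w'.2)])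
  obtain ⟨F, hF⟩ := f.exists_extend
  set e0 := univ.filter fun i => F (Pi.single i 1) = 1 with he0
  obtain ⟨c0, hc0, hcard⟩ := code_near e0
  have heig : Eig ψ v (symmDiff e0 c0) := fun c hc => by
    rw [hs c hc, chi_symmDiff_code hc hc0]
    congr 1
    have h1 : s c = F (ind c) := by
      have := LinearMap.congr_fun hF ⟨ind c, ind_mem_code.mpr hc⟩
      simp only [LinearMap.comp_apply, Submodule.subtype_apply] at this
      rw [this]
      show s c = s (support₂ (ind c : GolayPt → ZMod 2))
      rw [support₂_ind]
    have h2 : F (ind c) = ((c ∩ e0).card : ZMod 2) := by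
      rw [he0, ← zmod2_sum_eq, ← map_sum]
      congr 1
      funext i
      simp [ind, Finset.sum_apply, Pi.single_apply]
    rw [h1, h2, chi]
    by_cases he : Even (c ∩ e0).card
    · rw [if_pos he, if_pos ((ZMod.natCast_eq_zero_iff_even).mpr he)]
    · rw [if_neg he, if_neg fun h => he ((ZMod.natCast_eq_zero_iff_even).mp h)]
  refine ⟨v, symmDiff e0 c0, hv, ?_, heig⟩
  have hodd : ¬ Even (symmDiff e0 c0).card := fun he => by
    have h := heig univ univ_mem_code
    rw [show mono (one_mem M24) univ_mem_code = negOne from rfl, twist_negOne, negOne_apply, chi, univ_inter,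
      if_pos he, one_smul] at h
    exact hne h.symm
  rw [Nat.even_iff] at hodd
  omega

theorem Eig.orth {v w : leechLattice} {e e' : Finset GolayPt} (h : Eig ψ v e) (h' : Eig ψ w e')
    (hne : e ≠ e') (he : e.card ≤ 3) (he' : e'.card ≤ 3) : dotInt (co v) (co w) = 0 := by
  obtain ⟨c, hc, hd⟩ := exists_differ hne he he'
  have hdot := dot_smul (ψ (mono (one_mem M24) hc)) v w
  rw [h c hc, h' c hc] at hdot
  rcases chi_cases e c with a | a <;> rcases chi_cases e' c with b | b <;> rw [a, b] at hd hdot <;>
    first
      | exact absurd rfl hd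
      | (simp only [one_smul, neg_smul, AddSubgroup.coe_neg, dotInt, co, Pi.neg_apply, mul_neg, neg_mul, sum_neg_distrib]
          at hdot
         simp only [dotInt, co]
         omega)

theorem Eig.smul {v : leechLattice} {e : Finset GolayPt} (h : Eig ψ v e) (σ : M24) :
    Eig ψ (ψ (permEmb σ) • v) ((σ : Equiv.Perm GolayPt) • e) := by
  intro c hc
  have hd : (σ : Equiv.Perm GolayPt)⁻¹ • c ∈ code := smul_mem_code (inv_mem σ.2) hc
  have hconj := permEmb_conj σ hd
  rw [flip_congr (smul_inv_smul (σ : Equiv.Perm GolayPt) c) (hd := hc)] at hconj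
  rw [← hconj, smul_smul, ← map_mul, inv_mul_cancel_right, map_mul, mul_smul, h _ hd, smul_zsmul']
  congr 1
  have hcard : (c ∩ (σ : Equiv.Perm GolayPt) • e).card = (((σ : Equiv.Perm GolayPt)⁻¹ • c) ∩ e).card := by
    conv_lhs => rw [← smul_inv_smul (σ : Equiv.Perm GolayPt) c, ← smul_finset_inter, card_smul_finset]
  simp only [chi, hcard]

theorem permEmb_ne {σ : M24} {v : leechLattice} (hv : v ≠ 0) : ψ (permEmb σ) • v ≠ 0 := fun h => hv (by
  have h' := congrArg (fun x => (ψ (permEmb σ))⁻¹ • x) h
  simp only [inv_smul_smul] at h'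
  rw [h']
  exact (toHom _).map_zero)

theorem exists_line : ∃ f : leechLattice, f ≠ 0 ∧ Eig ψ f {none} := by
  classical
  obtain ⟨v, e, hv, he, heig⟩ := exists_eig ψ
  rcases he with he | he
  · obtain ⟨i, rfl⟩ := card_eq_one.mp he
    obtain ⟨σ, hσ, hi⟩ := M24_pretransitive i none
    refine ⟨ψ (permEmb ⟨σ, hσ⟩) • v, permEmb_ne ψ hv, ?_⟩
    have := Eig.smul ψ heig ⟨σ, hσ⟩
    rwa [smul_finset_singleton, Equiv.Perm.smul_def, hi] at this
  · exfalso
    have hex : ∀ t : {t : Finset GolayPt // t.card = 3}, ∃ w : leechLattice, w ≠ 0 ∧ Eig ψ w t := fun t => by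
      obtain ⟨σ, hσ, ht⟩ := exists_map_set (s := e) (t := t.1) (by omega) (he.trans t.2.symm)
      exact ⟨_, permEmb_ne ψ hv, ht ▸ Eig.smul ψ heig ⟨σ, hσ⟩⟩
    choose w hw hwe using hex
    have h := orth_card (fun t => co (w t)) (fun t h => hw t (Subtype.ext h))
      fun t t' hne => Eig.orth ψ (hwe t) (hwe t') (fun h => hne (Subtype.ext h)) (by omega) (by omega)
    rw [Fintype.card_finset_len, Fintype.card_option, ZMod.card] at h
    norm_num [Nat.choose] at h

/-- The twenty-four lines, compatibly labelled. -/
theorem exists_lines : ∃ f : GolayPt → leechLattice, (∀ i, f i ≠ 0) ∧ (∀ i, Eig ψ (f i) {i}) ∧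
    (∀ (σ : M24) (i : GolayPt), ψ (permEmb σ) • f i = f ((σ : Equiv.Perm GolayPt) i)) ∧
    (∀ i, dotInt (co (f i)) (co (f i)) = dotInt (co (f none)) (co (f none))) := by
  classical
  obtain ⟨f0, hf0, he0⟩ := exists_line ψ
  choose τ hτ hτi using fun i : GolayPt => M24_pretransitive none i
  let g : GolayPt → leechLattice := fun i => ψ (permEmb ⟨τ i, hτ i⟩) • f0
  have hne : ∀ i, g i ≠ 0 := fun i => permEmb_ne ψ hf0
  have heg : ∀ i, Eig ψ (g i) {i} := fun i => by
    have := Eig.smul ψ he0 ⟨τ i, hτ i⟩
    rwa [smul_finset_singleton, Equiv.Perm.smul_def, hτi] at this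
  have horth : ∀ i j, i ≠ j → dotInt (co (g i)) (co (g j)) = 0 := fun i j hij =>
    Eig.orth ψ (heg i) (heg j) (by simpa using hij) (by simp) (by simp)
  set n := dotInt (co f0) (co f0) with hn
  have hn0 : n ≠ 0 := dotInt_self_ne fun h => hf0 (Subtype.ext h)
  have hnorm : ∀ i, dotInt (co (g i)) (co (g i)) = n := fun i => dot_smul _ _ _
  -- the fixed points act without sign
  have hfix : ∀ ρ : M24, (ρ : Equiv.Perm GolayPt) none = none →
      ψ (permEmb ρ) • f0 = f0 ∨ ψ (permEmb ρ) • f0 = -f0 := by
    intro ρ hρ
    have hx : Eig ψ (ψ (permEmb ρ) • f0) {none} := by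
      have := Eig.smul ψ he0 ρ
      rwa [smul_finset_singleton, Equiv.Perm.smul_def, hρ] at this
    set x := ψ (permEmb ρ) • f0 with hxdef
    set d := dotInt (co x) (co f0) with hd
    set y : leechLattice := n • x - d • f0 with hy
    by_cases hy0 : y = 0
    · have hxx : dotInt (co x) (co x) = n := dot_smul _ _ _
      have hc : ∀ k, n * co x k = d * co f0 k := fun k => by
        have := congrFun (congrArg Subtype.val hy0) k
        simp only [hy, AddSubgroupClass.coe_sub, AddSubgroup.coe_zsmul, Pi.sub_apply, Pi.smul_apply, smul_eq_mul,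
          AddSubgroup.coe_zero, Pi.zero_apply] at this
        linarith
      have h2 : n * n * n = d * d * n := by
        have e1 : n * n * dotInt (co x) (co x) = d * d * dotInt (co f0) (co f0) := by
          simp only [dotInt, mul_sum]
          refine sum_congr rfl fun k _ => ?_
          have := hc k
          calc n * n * (co x k * co x k) = (n * co x k) * (n * co x k) := by ring
            _ = _ := by rw [this]; ring
        rw [hxx] at e1
        exact e1
      have h3 : n * n = d * d := mul_right_cancel₀ hn0 h2
      rcases mul_self_eq_mul_self_iff.mp h3 with h4 | h4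
      · left
        refine Subtype.ext (funext fun k => mul_left_cancel₀ hn0 ?_)
        rw [hc k, h4]
      · right
        refine Subtype.ext (funext fun k => mul_left_cancel₀ hn0 ?_)
        rw [hc k, h4, AddSubgroup.coe_neg, Pi.neg_apply]
        ring
    · exfalso
      have hyE : Eig ψ y {none} := fun c hc => by
        show toHom _ (n • x - d • f0) = _
        rw [map_sub, map_zsmul, map_zsmul]
        show n • (ψ (mono (one_mem M24) hc) • x) - d • (ψ (mono (one_mem M24) hc) • f0) = _
        rw [hx c hc, he0 c hc, hy, smul_sub, smul_comm n, smul_comm d]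
      let F : GolayPt → leechLattice := fun j => if j = none then f0 else g j
      have hFE : ∀ j, Eig ψ (F j) {j} := fun j => by
        by_cases h : j = none
        · simp only [F, if_pos h]; rw [h]; exact he0
        · simp only [F, if_neg h]; exact heg j
      have hF0 : ∀ j, co (F j) ≠ 0 := fun j => by
        by_cases h : j = none
        · simp only [F, if_pos h]; exact fun h' => hf0 (Subtype.ext h')
        · simp only [F, if_neg h]; exact fun h' => hne j (Subtype.ext h')
      have hyF : ∀ j, dotInt (co y) (co (F j)) = 0 := fun j => by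
        by_cases hj : j = none
        · simp only [F, if_pos hj, hy, co, dotInt, AddSubgroupClass.coe_sub, AddSubgroup.coe_zsmul, Pi.sub_apply,
            Pi.smul_apply, smul_eq_mul, sub_mul, sum_sub_distrib, mul_assoc, ← mul_sum]
          show n * dotInt (co x) (co f0) - d * dotInt (co f0) (co f0) = 0
          rw [← hd, ← hn]; ring
        · exact Eig.orth ψ hyE (hFE j) (by simpa using fun h => hj h.symm) (by simp) (by simp)
      have := orth_card (fun o : Option GolayPt => o.elim (co y) fun j => co (F j))
        (fun o => by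
          rcases o with _ | j
          · exact fun h => hy0 (Subtype.ext h)
          · exact hF0 j)
        (fun o o' hoo => by
          rcases o with _ | i <;> rcases o' with _ | j <;> simp only [Option.elim]
          · exact absurd rfl hoo
          · exact hyF j
          · rw [dotInt_comm']; exact hyF i
          · exact Eig.orth ψ (hFE i) (hFE j) (by simpa using fun h => hoo (by rw [h])) (by simp) (by simp))
      simp at this
  have htriv : ∀ ρ : M24, (ρ : Equiv.Perm GolayPt) none = none → ψ (permEmb ρ) • f0 = f0 := by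
    haveI := isSimple_M23
    let incl : Spor.M23 →* M24 := Subgroup.inclusion inf_le_left
    have hincl : ∀ k : Spor.M23, (incl k : Equiv.Perm GolayPt) none = none := fun k => k.2.2
    have hnegne : f0 ≠ -f0 := fun h => hf0 (by
      refine Subtype.ext (funext fun i => ?_)
      have := congrFun (congrArg Subtype.val h) i
      simp only [AddSubgroup.coe_neg, Pi.neg_apply] at this
      show (f0 : GolayPt → ℤ) i = 0
      omega)
    let δ : Spor.M23 →* ℤˣ := MonoidHom.mk' (fun k => if ψ (permEmb (incl k)) • f0 = f0 then 1 else -1) fun a b => by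
      simp only [map_mul, mul_smul]
      rcases hfix _ (hincl a) with h1 | h1 <;> rcases hfix _ (hincl b) with h2 | h2 <;>
        simp [h1, h2, hnegne.symm, smul_neg']
    rcases δ.normal_ker.eq_bot_or_eq_top with hk | hk
    · exfalso
      have hinj : Function.Injective δ := (MonoidHom.ker_eq_bot_iff δ).mp hk
      have hex : ∀ b : {b : GolayPt // b ≠ none}, ∃ k : Spor.M23, (k : Equiv.Perm GolayPt) (some 0) = b := fun b => by
        obtain ⟨σ, hσ, h1, h2, -⟩ := exists_map_three (a := none) (b := some 0) (c := some 1) (a' := none) (b' := b.1)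
          (c' := if b.1 = some 2 then some 3 else some 2) (by simp) (by simp) (by decide) (Ne.symm b.2)
          (by split <;> simp) (by split <;> simp_all <;> decide)
        exact ⟨⟨σ, hσ, h1⟩, h2⟩
      choose k hk' using hex
      have : Function.Injective fun b => δ (k b) := fun b b' h => Subtype.ext (by rw [← hk' b, ← hk' b', hinj h])
      have := Fintype.card_le_of_injective _ this
      simp at this
    · intro ρ hρ
      have h : δ ⟨ρ, ρ.2, hρ⟩ = 1 := MonoidHom.mem_ker.mp (hk ▸ Subgroup.mem_top _)
      by_contra hne'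
      rw [show δ ⟨ρ, ρ.2, hρ⟩ = -1 from if_neg hne'] at h
      exact absurd h (by decide)
  have key : ∀ (σ : M24), ψ (permEmb σ) • f0 = g ((σ : Equiv.Perm GolayPt) none) := fun σ => by
    set j := (σ : Equiv.Perm GolayPt) none
    have hρ : (((⟨τ j, hτ j⟩ : M24)⁻¹ * σ : M24) : Equiv.Perm GolayPt) none = none := by
      show (τ j)⁻¹ ((σ : Equiv.Perm GolayPt) none) = none
      rw [Equiv.Perm.inv_eq_iff_eq, hτi]
    have := htriv _ hρ
    rw [map_mul, map_mul, mul_smul, map_inv, map_inv, inv_smul_eq_iff] at this
    exact this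
  refine ⟨g, hne, heg, fun σ i => ?_, fun i => (hnorm i).trans (hnorm none).symm⟩
  show ψ (permEmb σ) • ψ (permEmb ⟨τ i, hτ i⟩) • f0 = _
  rw [smul_smul, ← map_mul, ← map_mul, key]
  show g ((σ : Equiv.Perm GolayPt) (τ i none)) = _
  rw [hτi]

end Cfsg.Lib.Leech.OutCo1
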